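import Groth.Agent.SmoothWeil.Alg
import Groth.Agent.ASp.GeomRedEt
import Groth.Agent.FinCondEasy.Components
import Groth.Agent.RegLocal.Basic
import Groth.Agent.RegLocal.Completion

/-!
Connected smooth schemes over a field are integral.
-/

set_option autoImplicit false
set_option backward.isDefEq.respectTransparency false
set_option linter.style.haveILetI false

universe u

open CategoryTheory AlgebraicGeometry TensorProduct

noncomputable section

namespace Groth.Agent.SmoothWeil

theorem isIntegral_of_smooth_connected {k : Type u} [Field k] {X : Scheme.{u}} (f : X ⟶ Spec (CommRingCat.of k))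
    [Smooth f] [ConnectedSpace X] : IsIntegral X := by
  haveI : IsLocallyNoetherian X := LocallyOfFiniteType.isLocallyNoetherian f
  refine (FinCondEasy.isIntegral_iff' (X := X)).2 ⟨inferInstance, fun x => ?_⟩
  haveI := ASp.isRegularLocalRing_stalk_of_smooth_field f x
  exact RegLocal.isDomain _

theorem isDomain_of_smooth_connected (k A : Type u) [Field k] [CommRing A] [Algebra k A] [Algebra.Smooth k A]
    [ConnectedSpace (PrimeSpectrum A)] : IsDomain A := by
  haveI : Smooth (Spec.map (CommRingCat.ofHom (algebraMap k A))) :=
    (HasRingHomProperty.Spec_iff (P := @Smooth)).2 (RingHom.smooth_algebraMap.2 ‹_›)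
  haveI : ConnectedSpace ↥(Spec (CommRingCat.of A)) := ‹ConnectedSpace (PrimeSpectrum A)›
  haveI := isIntegral_of_smooth_connected (Spec.map (CommRingCat.ofHom (algebraMap k A)))
  exact (Scheme.ΓSpecIso (CommRingCat.of A)).commRingCatIsoToRingEquiv.symm.toMulEquiv.isDomain

end Groth.Agent.SmoothWeil

end
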