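import Groth.Agent.SmoothWeil.Dom
import Groth.Agent.WeilClosedLib.Factors
import Groth.Agent.GeomIrred.Scheme

/-!
Affine charts of a smooth morphism with geometrically irreducible fibres.
-/

set_option autoImplicit false
set_option backward.isDefEq.respectTransparency false
set_option backward.isDefEq.respectTransparency.types false
set_option linter.style.haveILetI false

universe u

open CategoryTheory CategoryTheory.Limits AlgebraicGeometry TensorProduct

noncomputable section

namespace Groth.Agent.SmoothWeil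

section Chart

variable {S X : Scheme.{u}} (f : X ⟶ S) {R A : Type u} [CommRing R] [CommRing A] [Algebra R A]
  (h : Spec (CommRingCat.of R) ⟶ S) (v : Spec (CommRingCat.of A) ⟶ X)
  (hv : v ≫ f = Spec.map (CommRingCat.ofHom (algebraMap R A)) ≫ h)
  (C : Type u) [CommRing C] [Algebra R C]

include hv in
theorem chart_w : (Spec.map (CommRingCat.ofHom (Algebra.TensorProduct.includeRight : A →ₐ[R] C ⊗[R] A).toRingHom) ≫ v) ≫ f =
    Spec.map (CommRingCat.ofHom (Algebra.TensorProduct.includeLeftRingHom : C →+* C ⊗[R] A)) ≫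
      Spec.map (CommRingCat.ofHom (algebraMap R C)) ≫ h := by
  rw [Category.assoc, hv, ← Spec.map_comp_assoc, ← Spec.map_comp_assoc]
  congr 2
  ext r
  exact ((Algebra.TensorProduct.includeRight : A →ₐ[R] C ⊗[R] A).commutes r).trans
    ((Algebra.TensorProduct.includeLeft : C →ₐ[R] C ⊗[R] A).commutes r).symm

/-- A chart of the base change. -/
def chartMap : Spec (CommRingCat.of (C ⊗[R] A)) ⟶ pullback f (Spec.map (CommRingCat.ofHom (algebraMap R C)) ≫ h) :=
  pullback.lift (Spec.map (CommRingCat.ofHom (Algebra.TensorProduct.includeRight : A →ₐ[R] C ⊗[R] A).toRingHom) ≫ v)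
    (Spec.map (CommRingCat.ofHom (Algebra.TensorProduct.includeLeftRingHom : C →+* C ⊗[R] A))) (chart_w f h v hv C)

theorem chartMap_fst : chartMap f h v hv C ≫ pullback.fst _ _ =
    Spec.map (CommRingCat.ofHom (Algebra.TensorProduct.includeRight : A →ₐ[R] C ⊗[R] A).toRingHom) ≫ v :=
  pullback.lift_fst _ _ _

theorem chartMap_snd : chartMap f h v hv C ≫ pullback.snd _ _ =
    Spec.map (CommRingCat.ofHom (Algebra.TensorProduct.includeLeftRingHom : C →+* C ⊗[R] A)) :=
  pullback.lift_snd _ _ _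

theorem isOpenImmersion_chartMap [IsOpenImmersion h] [IsOpenImmersion v] : IsOpenImmersion (chartMap f h v hv C) := by
  have he : chartMap f h v hv C = (pullbackSpecIso R C A).inv ≫
      pullback.map _ _ (Spec.map (CommRingCat.ofHom (algebraMap R C)) ≫ h) f (𝟙 _) v h (by simp) hv.symm ≫
      (pullbackSymmetry _ _).hom := by
    apply pullback.hom_ext
    · simp [chartMap]
    · simp [chartMap]
  rw [he]
  infer_instance

end Chart

theorem geometricallyIrreducible_of_connected_geomFibres {S X : Scheme.{u}} (f : X ⟶ S) [Smooth f]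
    (hconn : ∀ s : S, ConnectedSpace ↥(pullback f (Spec.map (CommRingCat.ofHom
      (algebraMap (S.residueField s) (AlgebraicClosure (S.residueField s)))) ≫ S.fromSpecResidueField s))) :
    GeometricallyIrreducible f := by
  rw [GeometricallyIrreducible.iff_geometricallyIrreducible_fiber]
  intro s
  let K := AlgebraicClosure (S.residueField s)
  let k := Spec.map (CommRingCat.ofHom (algebraMap (S.residueField s) K))
  let e := pullbackLeftPullbackSndIso f (S.fromSpecResidueField s) k
  haveI := hconn s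
  haveI : ConnectedSpace ↥(pullback (f.fiberToSpecResidueField s) k) :=
    e.hom.homeomorph.symm.surjective.connectedSpace e.hom.homeomorph.symm.continuous
  haveI : Smooth (f.fiberToSpecResidueField s) := MorphismProperty.pullback_snd (P := @Smooth) _ _ ‹_›
  haveI : Smooth (pullback.snd (f.fiberToSpecResidueField s) k) :=
    MorphismProperty.pullback_snd (P := @Smooth) _ _ ‹_›
  haveI := isIntegral_of_smooth_connected (pullback.snd (f.fiberToSpecResidueField s) k)
  exact GeomIrred.geometricallyIrreducible_of_irreducible_pullback (k := S.residueField s) (f.fiberToSpecResidueField s) (AlgebraicClosure (S.residueField s))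

/-- An affine chart with a rational point has integral geometric fibre. -/
theorem isDomain_chart {S X : Scheme.{u}} (f : X ⟶ S) [GeometricallyIrreducible f]
    {R A : Type u} [CommRing R] [CommRing A] [Algebra R A] [Algebra.Smooth R A]
    (h : Spec (CommRingCat.of R) ⟶ S) [IsOpenImmersion h] (v : Spec (CommRingCat.of A) ⟶ X) [IsOpenImmersion v]
    (hv : v ≫ f = Spec.map (CommRingCat.ofHom (algebraMap R A)) ≫ h)
    (K : Type u) [Field K] [Algebra R K] (ε : A →ₐ[R] K) : IsDomain (K ⊗[R] A) := by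
  let c := chartMap f h v hv K
  haveI : IsOpenImmersion c := isOpenImmersion_chartMap f h v hv K
  haveI : IrreducibleSpace ↥(pullback f (Spec.map (CommRingCat.ofHom (algebraMap R K)) ≫ h)) :=
    GeometricallyIrreducible.geometrically_irreducibleSpace (f := f) _ _ _ (.of_hasPullback _ _)
  let t : K ⊗[R] A →ₐ[K] K := Algebra.TensorProduct.lift (AlgHom.id K K) ε fun _ _ => Commute.all _ _
  haveI : Nonempty (PrimeSpectrum (K ⊗[R] A)) := ⟨PrimeSpectrum.comap t.toRingHom ⟨⊥, Ideal.isPrime_bot⟩⟩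
  haveI : PreirreducibleSpace ↥(Spec (CommRingCat.of (K ⊗[R] A))) := c.isOpenEmbedding.preirreducibleSpace
  haveI : IrreducibleSpace ↥(Spec (CommRingCat.of (K ⊗[R] A))) := ⟨‹Nonempty (PrimeSpectrum (K ⊗[R] A))›⟩
  haveI : ConnectedSpace (PrimeSpectrum (K ⊗[R] A)) := inferInstanceAs (ConnectedSpace ↥(Spec (CommRingCat.of (K ⊗[R] A))))
  exact isDomain_of_smooth_connected K (K ⊗[R] A)

theorem geomDom_baseChange {S X : Scheme.{u}} (f : X ⟶ S) [GeometricallyIrreducible f]
    {R A : Type u} [CommRing R] [CommRing A] [Algebra R A] [Algebra.Smooth R A]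
    (h : Spec (CommRingCat.of R) ⟶ S) [IsOpenImmersion h] (v : Spec (CommRingCat.of A) ⟶ X) [IsOpenImmersion v]
    (hv : v ≫ f = Spec.map (CommRingCat.ofHom (algebraMap R A)) ≫ h)
    (R' : Type u) [CommRing R'] [Algebra R R'] (ε : A →ₐ[R] R') : GeomDom R' (R' ⊗[R] A) := fun K _ _ => by
  letI : Algebra R K := ((algebraMap R' K).comp (algebraMap R R')).toAlgebra
  haveI : IsScalarTower R R' K := IsScalarTower.of_algebraMap_eq fun _ => rfl
  haveI := isDomain_chart f h v hv K ((IsScalarTower.toAlgHom R R' K).comp ε)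
  exact (Algebra.TensorProduct.cancelBaseChange R R' K K A).toRingEquiv.toMulEquiv.isDomain

theorem lift_of_le_ker {A D : Type u} [CommRing A] [CommRing D] (J : Ideal A)
    (φ : A →+* D) (h : J ≤ RingHom.ker φ) :
    ∃ l, l ≫ Spec.map (CommRingCat.ofHom (Ideal.Quotient.mk J)) = Spec.map (CommRingCat.ofHom φ) :=
  ⟨Spec.map (CommRingCat.ofHom (Ideal.Quotient.lift J φ h)), by rw [← Spec.map_comp]; rfl⟩

theorem le_ker_of_lift {A D : Type u} [CommRing A] [CommRing D] (J : Ideal A) (φ : A →+* D)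
    (l : Spec (CommRingCat.of D) ⟶ Spec (CommRingCat.of (A ⧸ J)))
    (hl : l ≫ Spec.map (CommRingCat.ofHom (Ideal.Quotient.mk J)) = Spec.map (CommRingCat.ofHom φ)) :
    J ≤ RingHom.ker φ := by
  intro x hx
  obtain ⟨ψ, rfl⟩ := Spec.map_surjective l
  rw [← Spec.map_comp] at hl
  have := congrArg (fun q => q.hom x) (Spec.map_injective hl)
  simp only [CommRingCat.hom_comp, CommRingCat.hom_ofHom, RingHom.comp_apply,
    Ideal.Quotient.eq_zero_iff_mem.2 hx, map_zero] at this
  exact this.symm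

/-- An ideal whose closed subscheme contains an open neighbourhood of a section is zero. -/
theorem eq_bot_of_nhd_section {R B : Type u} [CommRing R] [CommRing B] [Algebra R B] [Algebra.Smooth R B]
    (hB : GeomDom R B) (e : B →ₐ[R] R) (J : Ideal B) (O : (Spec (CommRingCat.of B)).Opens)
    (he : ∀ P, Spec.map (CommRingCat.ofHom e.toRingHom) P ∈ O)
    (hJ : ∀ (D : Type u) [CommRing D] (φ : B →+* D), (∀ P, Spec.map (CommRingCat.ofHom φ) P ∈ O) → J ≤ RingHom.ker φ) :
    J = ⊥ := by
  refine le_bot_iff.1 fun x hx => eq_zero_of_forall_mem_pow e (fun p _ => hB p.ResidueField) fun n => ?_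
  rcases eq_or_ne n 0 with rfl | hn
  · simp
  refine Ideal.Quotient.eq_zero_iff_mem.1 (hJ _ (Ideal.Quotient.mk (RingHom.ker e ^ n)) (fun P => ?_) hx)
  let P' : PrimeSpectrum B := Spec.map (CommRingCat.ofHom (Ideal.Quotient.mk (RingHom.ker e ^ n))) P
  have hP : RingHom.ker e.toRingHom ≤ P'.asIdeal := by
    refine (P'.isPrime.pow_le_iff hn).1 fun y hy => ?_
    have h0 : Ideal.Quotient.mk (RingHom.ker e ^ n) y = 0 := Ideal.Quotient.eq_zero_iff_mem.2 hy
    show Ideal.Quotient.mk (RingHom.ker e ^ n) y ∈ (P : PrimeSpectrum (B ⧸ RingHom.ker e ^ n)).asIdeal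
    exact h0.symm ▸ zero_mem _
  have hs : Function.Surjective e.toRingHom := fun r => ⟨algebraMap R B r, e.commutes r⟩
  obtain ⟨P₀, hP₀⟩ : P' ∈ Set.range (PrimeSpectrum.comap e.toRingHom) := by
    rw [range_comap_of_surjective _ _ hs]
    exact hP
  show (P' : ↥(Spec (CommRingCat.of B))) ∈ O
  rw [← hP₀]
  exact he P₀

/-- A closed subscheme containing an open meeting every fibre contains everything. -/
theorem factorsOn_of_dense {S X Y : Scheme.{u}} (f : X ⟶ S) [Smooth f] [GeometricallyIrreducible f] (j : Y ⟶ X)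
    [IsClosedImmersion j] {C : CommRingCat.{u}} (g : Spec C ⟶ S) (O : (pullback f g).Opens)
    (hO : ∀ t, ∃ o ∈ O, pullback.snd f g o = t) (l : O.toScheme ⟶ Y) (hl : l ≫ j = O.ι ≫ pullback.fst f g) :
    WeilClosedLib.FactorsOn f j g := by
  intro W a b w
  suffices h : ∃ m : pullback f g ⟶ Y, m ≫ j = pullback.fst f g by
    obtain ⟨m, hm⟩ := h
    exact ⟨pullback.lift a b w ≫ m, by rw [Category.assoc, hm, pullback.lift_fst]⟩
  let P := pullback f g
  let p : P ⟶ Spec C := pullback.snd f g
  refine WeilClosedLib.exists_factor_of_cover _ fun z => ?_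
  obtain ⟨V, hV, hzV, -⟩ := exists_isAffineOpen_mem_and_subset (x := z) (U := ⊤) trivial
  refine ⟨V, hzV, ?_⟩
  let jP : pullback j (pullback.fst f g) ⟶ P := pullback.snd _ _
  obtain ⟨J, e, he⟩ := IsClosedImmersion.Spec_iff.1
    (inferInstance : IsClosedImmersion (pullback.snd jP hV.fromSpec))
  let αh := Spec.preimage (hV.fromSpec ≫ p)
  letI : Algebra C Γ(P, V) := αh.hom.toAlgebra
  have hαe : hV.fromSpec ≫ p = Spec.map (CommRingCat.ofHom (algebraMap C Γ(P, V))) ≫ 𝟙 _ := by
    rw [Category.comp_id]; exact (Spec.map_preimage _).symm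
  haveI : Algebra.Smooth C Γ(P, V) := by
    rw [← RingHom.smooth_algebraMap]
    refine (HasRingHomProperty.Spec_iff (P := @Smooth) (φ := CommRingCat.ofHom (algebraMap C Γ(P, V)))).1 ?_
    rw [show Spec.map (CommRingCat.ofHom (algebraMap C Γ(P, V))) = hV.fromSpec ≫ p from (Spec.map_preimage _)]
    infer_instance
  suffices hJ : J = ⊥ by
    have hiso : IsIso (Spec.map (CommRingCat.ofHom (Ideal.Quotient.mk J))) := by
      subst hJ
      haveI : IsIso (CommRingCat.ofHom (Ideal.Quotient.mk (⊥ : Ideal Γ(P, V)))) :=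
        (RingEquiv.quotientBot Γ(P, V)).symm.toCommRingCatIso.isIso_hom
      infer_instance
    haveI : IsIso (pullback.snd jP hV.fromSpec) := by rw [he]; infer_instance
    refine ⟨hV.isoSpec.hom ≫ inv (pullback.snd jP hV.fromSpec) ≫ pullback.fst _ _ ≫ pullback.fst _ _, ?_⟩
    simp only [Category.assoc]
    rw [pullback.condition, ← Category.assoc (pullback.fst jP hV.fromSpec), pullback.condition, Category.assoc,
      IsIso.inv_hom_id_assoc, IsAffineOpen.isoSpec_hom, ← Category.assoc, IsAffineOpen.toSpecΓ_fromSpec]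
  refine le_bot_iff.1 fun x hx => eq_zero_of_localization x fun q hq => ?_
  haveI := hq.isPrime
  let y : P := hV.fromSpec ⟨q, hq.isPrime⟩
  have hyV : y ∈ V := hV.range_fromSpec.subset ⟨_, rfl⟩
  have hpo : IsOpenMap p := p.isOpenMap
  obtain ⟨o', ho', hpo'⟩ := hO (p y)
  obtain ⟨w', hw'1, hw'2, hw'3⟩ := ((p.isIrreducible_preimage hpo (isIrreducible_singleton (x := p y))).2
    V O V.2 O.2 ⟨y, rfl, hyV⟩ ⟨o', hpo', ho'⟩)
  obtain ⟨W', hW', hwW', hle⟩ := exists_isAffineOpen_mem_and_subset (x := w') (U := V ⊓ O) ⟨hw'2, hw'3⟩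
  let β : Γ(P, V) ⟶ Γ(P, W') := P.presheaf.map (homOfLE (hle.trans inf_le_left : W' ≤ V)).op
  letI : Algebra C Γ(P, W') := (β.hom.comp (algebraMap C Γ(P, V))).toAlgebra
  let ε : Γ(P, V) →ₐ[C] Γ(P, W') := { toRingHom := β.hom, commutes' := fun _ => rfl }
  have hβ : Spec.map β ≫ hV.fromSpec = hW'.fromSpec := hV.map_fromSpec hW' _
  have hW'p : hW'.fromSpec ≫ p = Spec.map (CommRingCat.ofHom (algebraMap C Γ(P, W'))) := by
    rw [← hβ, Category.assoc, hαe, Category.comp_id, ← Spec.map_comp]; rfl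
  haveI : Algebra.Smooth C Γ(P, W') := by
    rw [← RingHom.smooth_algebraMap]
    refine (HasRingHomProperty.Spec_iff (P := @Smooth) (φ := CommRingCat.ofHom (algebraMap C Γ(P, W')))).1 ?_
    rw [← hW'p]; infer_instance
  let R' := Γ(P, W')
  let B := R' ⊗[C] Γ(P, V)
  have hB : GeomDom R' B := geomDom_baseChange p (𝟙 _) hV.fromSpec hαe R' ε
  let sec : B →ₐ[R'] R' := Algebra.TensorProduct.lift (AlgHom.id R' R') ε fun _ _ => Commute.all _ _
  let ρ : Spec (CommRingCat.of B) ⟶ Spec Γ(P, V) := Spec.map (CommRingCat.ofHom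
    (Algebra.TensorProduct.includeRight : Γ(P, V) →ₐ[C] B).toRingHom)
  let J' : Ideal B := J.map (Algebra.TensorProduct.includeRight : Γ(P, V) →ₐ[C] B)
  have hsec : Spec.map (CommRingCat.ofHom sec.toRingHom) ≫ ρ ≫ hV.fromSpec = hW'.fromSpec := by
    rw [← Spec.map_comp_assoc, ← hβ]
    congr 2
    ext a
    show sec (1 ⊗ₜ a) = ε a
    exact (Algebra.TensorProduct.lift_tmul ..).trans (by rw [map_one, one_mul])
  have hJ' : J' = ⊥ := by
    refine eq_bot_of_nhd_section hB sec J' ((ρ ≫ hV.fromSpec) ⁻¹ᵁ O) (fun P₀ => ?_) fun D _ φ hφ => ?_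
    · show (ρ ≫ hV.fromSpec) (Spec.map (CommRingCat.ofHom sec.toRingHom) P₀) ∈ O
      rw [← Scheme.Hom.comp_apply, hsec]
      exact (hle (hW'.range_fromSpec.subset ⟨P₀, rfl⟩)).2
    · let d := Spec.map (CommRingCat.ofHom φ) ≫ ρ
      let r := IsOpenImmersion.lift O.ι (d ≫ hV.fromSpec) (by
        rintro _ ⟨P₀, rfl⟩
        rw [Scheme.Opens.range_ι]
        exact hφ P₀)
      have hr : r ≫ O.ι = d ≫ hV.fromSpec := IsOpenImmersion.lift_fac _ _ _
      rw [Ideal.map_le_iff_le_comap]
      intro y hy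
      refine le_ker_of_lift J (φ.comp (Algebra.TensorProduct.includeRight : Γ(P, V) →ₐ[C] B).toRingHom)
        (pullback.lift (pullback.lift (r ≫ l) (r ≫ O.ι) (by simp [hl])) d (by rw [pullback.lift_snd, hr]) ≫ e.hom) ?_ hy
      rw [Category.assoc, ← he, pullback.lift_snd, CommRingCat.ofHom_comp, Spec.map_comp]
  have hx' : ((1 : R') ⊗ₜ[C] x : B) = 0 := by
    have : ((1 : R') ⊗ₜ[C] x : B) ∈ J' := Ideal.mem_map_of_mem _ hx
    rwa [hJ', Ideal.mem_bot] at this
  -- a point of the base change over `q`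
  obtain ⟨w₀, hw₀⟩ : w' ∈ Set.range hW'.fromSpec := by rw [hW'.range_fromSpec]; exact hwW'
  have sq : IsPullback (Spec.map (CommRingCat.ofHom (Algebra.TensorProduct.includeLeftRingHom : R' →+* B))) ρ
      (Spec.map (CommRingCat.ofHom (algebraMap C R'))) (Spec.map (CommRingCat.ofHom (algebraMap C Γ(P, V)))) :=
    isPullback_SpecMap_of_isPushout _ _ _ _ (CommRingCat.isPushout_tensorProduct C R' Γ(P, V))
  obtain ⟨Q, -, hQ⟩ := Scheme.exists_preimage_of_isPullback sq w₀ ⟨q, hq.isPrime⟩ (by
    have h1 : p (hW'.fromSpec w₀) = p y := (congrArg p hw₀).trans hw'1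
    have h2 : (hW'.fromSpec ≫ p) w₀ = (hV.fromSpec ≫ p) ⟨q, hq.isPrime⟩ := h1
    rw [hW'p, hαe, Category.comp_id] at h2
    exact h2)
  let α := (Algebra.TensorProduct.includeRight : Γ(P, V) →ₐ[C] B).toRingHom
  let Q' : PrimeSpectrum B := Q
  have hQ' : Q'.asIdeal.comap α = q := congrArg PrimeSpectrum.asIdeal hQ
  haveI : Module.Flat Γ(P, V) (Γ(P, V) ⊗[C] R') := inferInstance
  have hflat : α.Flat := by
    haveI : Flat (Spec.map (CommRingCat.ofHom (algebraMap C R'))) := by rw [← hW'p]; infer_instance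
    haveI : Flat ρ := MorphismProperty.of_isPullback sq ‹Flat (Spec.map (CommRingCat.ofHom (algebraMap C R')))›
    exact (HasRingHomProperty.Spec_iff (P := @Flat) (φ := CommRingCat.ofHom α)).1 ‹_›
  let lh := Localization.localRingHom q Q'.asIdeal α hQ'.symm
  have hlf : lh.Flat := RingHom.Flat.localRingHom hflat _ _ hQ'.symm
  haveI : IsLocalHom lh := Localization.isLocalHom_localRingHom _ _ _ _
  have hinj : Function.Injective lh := by
    letI : Algebra (Localization.AtPrime q) (Localization.AtPrime Q'.asIdeal) := lh.toAlgebra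
    haveI : IsLocalHom (algebraMap (Localization.AtPrime q) (Localization.AtPrime Q'.asIdeal)) := ‹IsLocalHom lh›
    haveI : Module.Flat (Localization.AtPrime q) (Localization.AtPrime Q'.asIdeal) := hlf
    haveI := @Module.FaithfullyFlat.of_flat_of_isLocalHom (Localization.AtPrime q) (Localization.AtPrime Q'.asIdeal) _ _ _ _ _ _ _
    exact FaithfulSMul.algebraMap_injective _ _
  apply hinj
  rw [map_zero, Localization.localRingHom_to_map, show α x = 0 from hx', map_zero]

end Groth.Agent.SmoothWeil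

end
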