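import Groth.Agent.SmoothWeil.Local
import Groth.Agent.WeilClosedLib.Global

/-!
Weil restriction of a closed subscheme along a smooth morphism with geometrically irreducible fibres.
-/

set_option autoImplicit false
set_option backward.isDefEq.respectTransparency false
set_option backward.isDefEq.respectTransparency.types false
set_option linter.style.haveILetI false

universe u

open CategoryTheory CategoryTheory.Limits AlgebraicGeometry TensorProduct

noncomputable section

namespace Groth.Agent.SmoothWeil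

/-- The condition on the diagonal section over a chart, for affine base changes of the chart. -/
theorem repBy_chart {S X Y : Scheme.{u}} (f : X ⟶ S) [Smooth f] [GeometricallyIrreducible f] (j : Y ⟶ X)
    [IsClosedImmersion j] {R A : CommRingCat.{u}} [Algebra R A] [Algebra.Smooth R A]
    (h : Spec R ⟶ S) [IsOpenImmersion h] (v : Spec A ⟶ X) [IsOpenImmersion v]
    (hv : v ≫ f = Spec.map (CommRingCat.ofHom (algebraMap R A)) ≫ h)
    (hsurj : Surjective (Spec.map (CommRingCat.ofHom (algebraMap R A)))) :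
    ∃ c : Ideal A, WeilClosedLib.RepBy f j (Spec.map (CommRingCat.ofHom (algebraMap R A)) ≫ h) c ∧
      (LocallyOfFinitePresentation j → c.FG) := by
  obtain ⟨J, e, he⟩ := IsClosedImmersion.Spec_iff.1 (inferInstance : IsClosedImmersion (pullback.snd j v))
  let μ : A ⊗[R] A →ₐ[A] A := Algebra.TensorProduct.lift (AlgHom.id A A) (AlgHom.id R A) fun _ _ => Commute.all _ _
  have hB : GeomDom A (A ⊗[R] A) := geomDom_baseChange f h v hv A (AlgHom.id R A)
  let J' : Ideal (A ⊗[R] A) := J.map (Algebra.TensorProduct.includeRight : A →ₐ[R] A ⊗[R] A)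
  refine ⟨secIdeal μ J', fun C φ => ?_, fun hlfp => secIdeal_fg μ J' (Ideal.FG.map ?_ _)⟩
  · letI : Algebra A C := φ.hom.toAlgebra
    letI : Algebra R C := (φ.hom.comp (algebraMap R A)).toAlgebra
    haveI : IsScalarTower R A C := IsScalarTower.of_algebraMap_eq fun _ => rfl
    have hcomp : Spec.map φ ≫ Spec.map (CommRingCat.ofHom (algebraMap R A)) ≫ h =
        Spec.map (CommRingCat.ofHom (algebraMap R C)) ≫ h := by
      rw [← Spec.map_comp_assoc]; rfl
    rw [hcomp, show RingHom.ker φ.hom = RingHom.ker (algebraMap A C) from rfl,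
      ← forall_tmul_eq_zero_iff_secIdeal μ hB J' C]
    let θ := Algebra.TensorProduct.cancelBaseChange R A C C A
    have hθ : ∀ a : A, θ ((1 : C) ⊗ₜ[A] ((1 : A) ⊗ₜ[R] a)) = (1 : C) ⊗ₜ[R] a := fun a => by simp [θ]
    have hiff : (∀ x ∈ J', (1 : C) ⊗ₜ[A] x = 0) ↔
        J ≤ RingHom.ker (Algebra.TensorProduct.includeRight : A →ₐ[R] C ⊗[R] A).toRingHom := by
      constructor
      · intro hh a ha
        show (1 : C) ⊗ₜ[R] a = 0
        rw [← hθ]
        exact (congrArg θ (hh _ (Ideal.mem_map_of_mem _ ha))).trans (map_zero θ)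
      · intro hh x hx
        refine (Ideal.map_le_iff_le_comap.2 (fun a ha => ?_) :
          J' ≤ RingHom.ker (Algebra.TensorProduct.includeRight : A ⊗[R] A →ₐ[A] C ⊗[A] (A ⊗[R] A)).toRingHom) hx
        show (1 : C) ⊗ₜ[A] ((1 : A) ⊗ₜ[R] a) = 0
        exact θ.injective (by rw [hθ, map_zero]; exact hh ha)
    rw [hiff]
    let cm := chartMap f h v hv C
    haveI : IsOpenImmersion cm := isOpenImmersion_chartMap f h v hv C
    constructor
    · intro hF
      obtain ⟨l, hl⟩ := hF (cm ≫ pullback.fst _ _) (cm ≫ pullback.snd _ _) (by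
        rw [Category.assoc, Category.assoc, pullback.condition])
      rw [chartMap_fst] at hl
      refine le_ker_of_lift J _ (pullback.lift l _ hl ≫ e.hom) ?_
      rw [Category.assoc, ← he, pullback.lift_snd]
    · intro hJ
      obtain ⟨l, hl⟩ := lift_of_le_ker J _ hJ
      have hl' : (cm.isoOpensRange.inv ≫ l ≫ e.inv ≫ pullback.fst j v) ≫ j =
          cm.opensRange.ι ≫ pullback.fst f _ := by
        simp only [Category.assoc]
        rw [pullback.condition, he]
        simp only [Category.assoc, Iso.inv_hom_id_assoc]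
        rw [reassoc_of% hl, ← chartMap_fst f h v hv C,
          ← Category.assoc, Scheme.Hom.isoOpensRange_inv_comp]
      refine factorsOn_of_dense f j _ cm.opensRange (fun t => ?_) _ hl'
      have sq : IsPullback (Spec.map (CommRingCat.ofHom (Algebra.TensorProduct.includeLeftRingHom : C →+* C ⊗[R] A)))
          (Spec.map (CommRingCat.ofHom (Algebra.TensorProduct.includeRight : A →ₐ[R] C ⊗[R] A).toRingHom))
          (Spec.map (CommRingCat.ofHom (algebraMap R C))) (Spec.map (CommRingCat.ofHom (algebraMap R A))) :=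
        isPullback_SpecMap_of_isPushout _ _ _ _ (CommRingCat.isPushout_tensorProduct R C A)
      obtain ⟨y, hy⟩ := hsurj.surj (Spec.map (CommRingCat.ofHom (algebraMap R C)) t)
      obtain ⟨z, hz, -⟩ := Scheme.exists_preimage_of_isPullback sq t y hy.symm
      refine ⟨cm z, ⟨z, rfl⟩, ?_⟩
      rw [← Scheme.Hom.comp_apply, chartMap_snd]
      exact hz
  · have h1 : LocallyOfFinitePresentation (Spec.map (CommRingCat.ofHom (Ideal.Quotient.mk J))) := by
      rw [show Spec.map (CommRingCat.ofHom (Ideal.Quotient.mk J)) = e.inv ≫ pullback.snd j v by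
        rw [he, Iso.inv_hom_id_assoc]]
      infer_instance
    rw [HasRingHomProperty.Spec_iff (P := @LocallyOfFinitePresentation)] at h1
    haveI : Algebra.FinitePresentation A (A ⧸ J) := RingHom.finitePresentation_algebraMap.1 (by exact h1)
    have h2 := Algebra.FinitePresentation.ker_fG_of_surjective (Algebra.ofId A (A ⧸ J))
      Ideal.Quotient.mk_surjective
    rwa [show RingHom.ker (Algebra.ofId A (A ⧸ J)).toRingHom = J from Ideal.mk_ker] at h2

/-- Weil restriction of a closed subscheme along a smooth morphism with geometrically irreducible fibres. -/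
theorem exists_closed_of_smooth {S X Y : Scheme.{u}} (f : X ⟶ S) [Smooth f] [GeometricallyIrreducible f]
    (j : Y ⟶ X) [IsClosedImmersion j] :
    ∃ (T : Scheme.{u}) (t : T ⟶ S), IsClosedImmersion t ∧
      (∀ (S' : Scheme.{u}) (g : S' ⟶ S), (∃ g' : S' ⟶ T, g' ≫ t = g) ↔ WeilClosedLib.FactorsOn f j g) ∧
      (LocallyOfFinitePresentation j → LocallyOfFinitePresentation t) := by
  refine WeilClosedLib.exists_closed_rep fun s => ?_
  obtain ⟨x, rfl⟩ := f.surjective s
  obtain ⟨U, hU, hsU, -⟩ := exists_isAffineOpen_mem_and_subset (x := f x) (U := ⊤) trivial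
  obtain ⟨V0, hV0, hxV0, hle⟩ := exists_isAffineOpen_mem_and_subset (x := x) (U := f ⁻¹ᵁ U) hsU
  obtain ⟨r, hr, hxr⟩ := hU.exists_basicOpen_le (V := ⟨f '' V0, f.isOpenMap _ V0.2⟩) ⟨f x, x, hxV0, rfl⟩ hsU
  let U' : S.Opens := S.basicOpen r
  let V : X.Opens := X.basicOpen (f.appLE U V0 hle r)
  have hU' : IsAffineOpen U' := hU.basicOpen r
  have hV : IsAffineOpen V := hV0.basicOpen _
  have hVeq : V = V0 ⊓ f ⁻¹ᵁ U' := Scheme.basicOpen_appLE f V0 U hle r
  have hVU : V ≤ f ⁻¹ᵁ U' := hVeq ▸ inf_le_right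
  let R := Γ(S, U')
  let A := Γ(X, V)
  letI : Algebra R A := (f.appLE U' V hVU).hom.toAlgebra
  have hv : hV.fromSpec ≫ f = Spec.map (CommRingCat.ofHom (algebraMap R A)) ≫ hU'.fromSpec :=
    (IsAffineOpen.SpecMap_appLE_fromSpec f hU' hV hVU).symm
  haveI : Algebra.Smooth R A := RingHom.smooth_algebraMap.1
    (HasRingHomProperty.appLE (P := @Smooth) f ‹_› ⟨U', hU'⟩ ⟨V, hV⟩ hVU)
  have hsurj : Surjective (Spec.map (CommRingCat.ofHom (algebraMap R A))) := ⟨fun p => by
    have hp : hU'.fromSpec p ∈ U' := hU'.range_fromSpec.subset ⟨p, rfl⟩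
    obtain ⟨y, hyV0, hy⟩ := hr hp
    have hyV : y ∈ V := hVeq.symm ▸ (⟨hyV0, show f y ∈ U' from hy ▸ hp⟩ : y ∈ V0 ⊓ f ⁻¹ᵁ U')
    obtain ⟨q, hq⟩ := hV.range_fromSpec.superset hyV
    refine ⟨q, hU'.fromSpec.isOpenEmbedding.injective ?_⟩
    have h1 : (hV.fromSpec ≫ f) q = hU'.fromSpec p := by
      show f (hV.fromSpec q) = _
      rw [show hV.fromSpec q = y from hq]
      exact hy
    rw [hv] at h1
    exact h1⟩
  obtain ⟨c', hc', hfg⟩ := repBy_chart f j hU'.fromSpec hV.fromSpec hv hsurj
  have hflat : (algebraMap R A).Flat := RingHom.flat_algebraMap_iff.2 inferInstance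
  obtain ⟨hrep, hmap⟩ := hc'.descend (CommRingCat.ofHom (algebraMap R A)) hflat hsurj
  refine ⟨U', hU', _, hxr, hrep, fun hP => ?_⟩
  haveI : Module.FaithfullyFlat R A :=
    RingHom.faithfullyFlat_algebraMap_iff.1 (RingHom.FaithfullyFlat.iff_flat_and_comap_surjective.2 ⟨hflat, hsurj.surj⟩)
  refine WeilClosedLib.fg_of_fg_map (R' := A) _ ?_
  have h2 : (Ideal.comap (algebraMap R A) c').map (algebraMap R A) = c' := hmap
  exact h2.symm ▸ hfg hP

end Groth.Agent.SmoothWeil

end
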