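import Groth.Agent.SmoothWeil.Section
import Groth.Agent.WeilClosedLib.Coeff

/-!
The ideal of the base over which an ideal of a smooth algebra with a section vanishes.
-/

set_option autoImplicit false
set_option backward.isDefEq.respectTransparency false
set_option linter.style.haveILetI false

universe u

open TensorProduct

noncomputable section

namespace Groth.Agent.SmoothWeil

/-- All fibres are geometrically integral. -/
def GeomDom (R B : Type u) [CommRing R] [CommRing B] [Algebra R B] : Prop :=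
  ∀ (K : Type u) [Field K] [Algebra R K], IsDomain (K ⊗[R] B)

variable {R B : Type u} [CommRing R] [CommRing B] [Algebra R B]

theorem GeomDom.baseChange (h : GeomDom R B) (R' : Type u) [CommRing R'] [Algebra R R'] :
    GeomDom R' (R' ⊗[R] B) := fun K _ _ => by
  letI : Algebra R K := ((algebraMap R' K).comp (algebraMap R R')).toAlgebra
  haveI : IsScalarTower R R' K := IsScalarTower.of_algebraMap_eq fun _ => rfl
  haveI := h K
  exact (Algebra.TensorProduct.cancelBaseChange R R' K K B).toRingEquiv.toMulEquiv.isDomain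

theorem geomDom_of_algClosed (h : ∀ (K : Type u) [Field K] [IsAlgClosed K] [Algebra R K], IsDomain (K ⊗[R] B)) :
    GeomDom R B := fun K _ _ => by
  let L := AlgebraicClosure K
  haveI := h L
  let f : K ⊗[R] B →ₐ[R] L ⊗[R] B :=
    Algebra.TensorProduct.map (IsScalarTower.toAlgHom R K L) (AlgHom.id R B)
  have hinj : Function.Injective f := by
    have h1 := Module.Flat.rTensor_preserves_injective_linearMap (M := K ⊗[R] B) (Algebra.linearMap K L)
      (algebraMap K L).injective
    have h2 : Function.Injective ((Algebra.TensorProduct.cancelBaseChange R K L L B) ∘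
        (Algebra.linearMap K L).rTensor (K ⊗[R] B) ∘ (TensorProduct.lid K (K ⊗[R] B)).symm) :=
      (Algebra.TensorProduct.cancelBaseChange R K L L B).injective.comp
        (h1.comp (TensorProduct.lid K (K ⊗[R] B)).symm.injective)
    convert h2 using 1
    funext z
    induction z using TensorProduct.induction_on with
    | zero => simp [f]
    | add a b ha hb => simp only [map_add, ha, hb, Function.comp_apply]
    | tmul k b => simp [f, Algebra.smul_def]
  exact hinj.isDomain f.toRingHom

variable (e : B →ₐ[R] R)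

/-- The base change of a section. -/
abbrev bcSection (R' : Type u) [CommRing R'] [Algebra R R'] : R' ⊗[R] B →ₐ[R'] R' :=
  Algebra.TensorProduct.lift (AlgHom.id R' R') ((Algebra.ofId R R').comp e) fun _ _ => Commute.all _ _

theorem tmul_mem_iff (R' : Type u) [CommRing R'] [Algebra R R'] (x : B) (n : ℕ) :
    (1 : R') ⊗ₜ[R] x ∈ RingHom.ker (bcSection e R') ^ n ↔
      (1 : R') ⊗ₜ[R] Ideal.Quotient.mk (RingHom.ker e ^ n) x = 0 := by
  rw [ker_lift_section, ← Ideal.map_pow]
  have := Algebra.TensorProduct.lTensor_ker (A := R') (Ideal.Quotient.mkₐ R (RingHom.ker e ^ n))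
    Ideal.Quotient.mk_surjective
  have h0 : RingHom.ker (Ideal.Quotient.mkₐ R (RingHom.ker e ^ n)) = RingHom.ker e ^ n := by
    ext y; exact Ideal.Quotient.eq_zero_iff_mem
  rw [h0] at this
  rw [← this]
  rfl

/-- The coefficient ideal of the `n`-th infinitesimal neighbourhood. -/
def coeffN (J : Ideal B) (n : ℕ) : Ideal R :=
  WeilClosedLib.coeff R (J.map (Ideal.Quotient.mk (RingHom.ker e ^ n)))

/-- The union of the coefficient ideals. -/
def secIdeal (J : Ideal B) : Ideal R := ⨆ n, coeffN e J n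

variable [Algebra.Smooth R B]

theorem coeffN_le_iff (J : Ideal B) (n : ℕ) (R' : Type u) [CommRing R'] [Algebra R R'] :
    coeffN e J n ≤ RingHom.ker (algebraMap R R') ↔
      ∀ x ∈ J, (1 : R') ⊗ₜ[R] x ∈ RingHom.ker (bcSection e R') ^ n := by
  haveI := (projective_finite_quot_ker_pow e n).1
  rw [coeffN, ← WeilClosedLib.forall_tmul_eq_zero_iff]
  constructor
  · intro h x hx
    rw [tmul_mem_iff]
    have := congrArg (TensorProduct.comm R _ R') (h _ (Ideal.mem_map_of_mem _ hx))
    rwa [TensorProduct.comm_tmul, map_zero] at this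
  · intro h a ha
    obtain ⟨x, hx, rfl⟩ := (Ideal.mem_map_iff_of_surjective _ Ideal.Quotient.mk_surjective).1 ha
    have := congrArg (TensorProduct.comm R R' _) ((tmul_mem_iff e R' x n).1 (h x hx))
    rwa [TensorProduct.comm_tmul, map_zero] at this

/-- An ideal vanishes after a base change if and only if `secIdeal` does. -/
theorem forall_tmul_eq_zero_iff_secIdeal (hB : GeomDom R B) (J : Ideal B) (R' : Type u) [CommRing R'] [Algebra R R'] :
    (∀ x ∈ J, (1 : R') ⊗ₜ[R] x = 0) ↔ secIdeal e J ≤ RingHom.ker (algebraMap R R') := by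
  rw [secIdeal, iSup_le_iff]
  refine ⟨fun h n => (coeffN_le_iff e J n R').2 fun x hx => by rw [h x hx]; exact zero_mem _, fun h x hx => ?_⟩
  exact eq_zero_of_forall_mem_pow (bcSection e R') (fun p _ => hB.baseChange R' p.ResidueField)
    fun n => (coeffN_le_iff e J n R').1 (h n) x hx

theorem coeffN_mono (J : Ideal B) : Monotone (coeffN e J) := fun m n hmn => by
  have h := (coeffN_le_iff e J n (R ⧸ coeffN e J n)).1 (by rw [Ideal.Quotient.algebraMap_eq, Ideal.mk_ker])
  have := (coeffN_le_iff e J m (R ⧸ coeffN e J n)).2 fun x hx => Ideal.pow_le_pow_right hmn (h x hx)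
  rwa [Ideal.Quotient.algebraMap_eq, Ideal.mk_ker] at this

theorem mem_ker_pow_iff_of_equiv {A A' R' : Type u} [CommRing A] [CommRing A'] [CommRing R'] [Algebra R' A]
    [Algebra R' A'] (ψ : A ≃ₐ[R'] A') (L : A →ₐ[R'] R') (L' : A' →ₐ[R'] R') (h : ∀ z, L' (ψ z) = L z) (z : A) (n : ℕ) :
    ψ z ∈ RingHom.ker L' ^ n ↔ z ∈ RingHom.ker L ^ n := by
  have hmap : (RingHom.ker L).map ψ.toAlgHom = RingHom.ker L' := by
    ext w
    rw [Ideal.mem_map_iff_of_surjective ψ.toAlgHom ψ.surjective]
    constructor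
    · rintro ⟨y, hy, rfl⟩
      exact (h y).trans hy
    · intro hw
      refine ⟨ψ.symm w, ?_, ψ.apply_symm_apply w⟩
      show L (ψ.symm w) = 0
      rw [← h, AlgEquiv.apply_symm_apply]; exact hw
  rw [← hmap, ← Ideal.map_pow, Ideal.mem_map_iff_of_surjective ψ.toAlgHom ψ.surjective]
  exact ⟨fun ⟨y, hy, hy'⟩ => ψ.injective hy' ▸ hy, fun hz => ⟨z, hz, rfl⟩⟩

/-- For a finitely generated ideal, finitely many neighbourhoods suffice. -/
theorem exists_secIdeal_eq (J : Ideal B) (hJ : J.FG) : ∃ n, secIdeal e J = coeffN e J n := by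
  classical
  obtain ⟨F, rfl⟩ := hJ
  obtain ⟨R₁, B₁, _, _, _, _, _, _, e₁, θ, -, hc, hF⟩ := exists_noetherian_model e F
  choose g hg using hF
  let J₁ : Ideal B₁ := Ideal.span (Set.range fun x : F => g x.1 x.2)
  obtain ⟨N, hN⟩ := (monotone_stabilizes_iff_noetherian.2 inferInstance) (⟨coeffN e₁ J₁, coeffN_mono e₁ J₁⟩ : ℕ →o Ideal R₁)
  refine ⟨N, le_antisymm (iSup_le fun m => ?_) (le_iSup (coeffN e _) N)⟩
  rcases le_total m N with h | h
  · exact coeffN_mono e _ h
  let R' := R ⧸ coeffN e (Ideal.span (F : Set B)) N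
  have hR' : ∀ n, coeffN e (Ideal.span (F : Set B)) n ≤ RingHom.ker (algebraMap R R') ↔
      coeffN e₁ J₁ n ≤ RingHom.ker (algebraMap R₁ R') := by
    intro n
    letI : IsScalarTower R₁ R R' := inferInstance
    let ψ : R' ⊗[R₁] B₁ ≃ₐ[R'] R' ⊗[R] B := (Algebra.TensorProduct.cancelBaseChange R₁ R R' R' B₁).symm.trans
      (Algebra.TensorProduct.congr AlgEquiv.refl θ)
    have hψ : ∀ z, bcSection e R' (ψ z) = bcSection e₁ R' z := by
      intro z
      induction z using TensorProduct.induction_on with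
      | zero => simp
      | add a b ha hb => simp only [map_add, ha, hb]
      | tmul r b =>
        have := hc (1 ⊗ₜ b)
        simp only [Algebra.TensorProduct.lift_tmul, map_one, one_mul, AlgHom.comp_apply, Algebra.ofId_apply] at this
        simp [ψ, Algebra.ofId_apply, this, ← IsScalarTower.algebraMap_apply]
    have hx : ∀ x : F, ψ (1 ⊗ₜ g x.1 x.2) = (1 : R') ⊗ₜ[R] x.1 := fun x => by simp [ψ, hg]
    rw [coeffN_le_iff, coeffN_le_iff]
    constructor
    · intro hn x hxJ
      refine (Ideal.span_le.2 ?_ : J₁ ≤ (RingHom.ker (bcSection e₁ R') ^ n).comap Algebra.TensorProduct.includeRight) hxJ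
      rintro _ ⟨y, rfl⟩
      rw [SetLike.mem_coe, Ideal.mem_comap, Algebra.TensorProduct.includeRight_apply]
      rw [← mem_ker_pow_iff_of_equiv ψ _ _ hψ, hx]
      exact hn _ (Ideal.subset_span y.2)
    · intro hn x hxJ
      refine (Ideal.span_le.2 ?_ : Ideal.span (F : Set B) ≤ (RingHom.ker (bcSection e R') ^ n).comap Algebra.TensorProduct.includeRight) hxJ
      intro y hy
      rw [SetLike.mem_coe, Ideal.mem_comap, Algebra.TensorProduct.includeRight_apply]
      rw [← hx ⟨y, hy⟩, mem_ker_pow_iff_of_equiv ψ _ _ hψ]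
      exact hn _ (Ideal.subset_span ⟨⟨y, hy⟩, rfl⟩)
  have h1 := (hR' N).1 (by rw [Ideal.Quotient.algebraMap_eq, Ideal.mk_ker])
  have h2 := (hR' m).2 ((le_of_eq (hN m h).symm).trans h1)
  rwa [Ideal.Quotient.algebraMap_eq, Ideal.mk_ker] at h2

theorem secIdeal_fg (J : Ideal B) (hJ : J.FG) : (secIdeal e J).FG := by
  obtain ⟨n, hn⟩ := exists_secIdeal_eq e J hJ
  rw [hn]
  haveI := (projective_finite_quot_ker_pow e n).1
  exact WeilClosedLib.coeff_fg _ (hJ.map _)

end Groth.Agent.SmoothWeil

end
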