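import Groth.Agent.EssFPLib.InjFlat
import Groth.Agent.EssFPLib.Model

/-!
An element which is regular modulo every prime of the base is regular on a flat finitely presented algebra.
-/

set_option autoImplicit false
set_option backward.isDefEq.respectTransparency false
set_option linter.style.haveILetI false

universe u

open TensorProduct

noncomputable section

namespace Groth.Agent.SmoothWeil

variable {R B : Type u} [CommRing R] [CommRing B] [Algebra R B]

/-- Regularity from regularity modulo the primes of the base. -/
theorem isSMulRegular_of_mod_prime [Algebra.FinitePresentation R B] [Module.Flat R B] (u : B)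
    (hu : ∀ p : Ideal R, p.IsPrime → ∀ x, u * x ∈ p.map (algebraMap R B) → x ∈ p.map (algebraMap R B)) :
    IsSMulRegular B u := by
  rw [isSMulRegular_iff_right_eq_zero_of_smul]
  intro x hx
  refine eq_zero_of_localization x fun q hq => ?_
  let p := q.under R
  let Rp := Localization.AtPrime p
  let Bq := Localization.AtPrime q
  haveI : q.LiesOver p := ⟨rfl⟩
  letI : Algebra Rp Bq := Localization.AtPrime.algebraOfLiesOver p q
  have hS : CAlgX.IsEssFinitePresentation Rp Bq := by
    refine EssFPLib.isEssFinitePresentation_of_tower (R := R) (S := Rp) (S' := Bq) ?_ ?_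
    · exact ⟨R, inferInstance, inferInstance, inferInstance, inferInstance, p.primeCompl,
        inferInstance, inferInstance⟩
    · exact ⟨B, inferInstance, inferInstance, inferInstance, inferInstance, q.primeCompl,
        inferInstance, inferInstance⟩
  haveI : Module.Flat R Bq := Module.Flat.trans R B Bq
  haveI : Module.Flat Rp Bq := (Module.flat_iff_of_isLocalization Rp p.primeCompl Bq).2 inferInstance
  haveI : IsLocalHom (algebraMap Rp Bq) := Localization.isLocalHom_localRingHom p q _ Ideal.LiesOver.over
  let μ : Bq →ₗ[Bq] Bq := algebraMap B Bq u • LinearMap.id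
  have hp : (IsLocalRing.maximalIdeal Rp).map (algebraMap Rp Bq) = (p.map (algebraMap R B)).map (algebraMap B Bq) := by
    rw [← Localization.AtPrime.map_eq_maximalIdeal, Ideal.map_map, Ideal.map_map,
      ← IsScalarTower.algebraMap_eq, ← IsScalarTower.algebraMap_eq]
  have h := EssFPLib.injective_and_flat_coker hS μ (fun y hy => by
    rw [Ideal.smul_top_eq_map, Submodule.restrictScalars_mem] at hy ⊢
    simp only [Algebra.algebraMap_self, Ideal.map_id] at hy ⊢
    rw [hp] at hy ⊢
    obtain ⟨⟨b, s⟩, rfl⟩ := IsLocalization.mk'_surjective q.primeCompl y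
    change algebraMap B Bq u * IsLocalization.mk' Bq b s ∈ _ at hy
    show IsLocalization.mk' Bq b s ∈ _
    rw [IsLocalization.mul_mk'_eq_mk'_of_mul, IsLocalization.mk'_mem_iff] at hy
    rw [IsLocalization.mk'_mem_iff]
    rw [IsLocalization.algebraMap_mem_map_algebraMap_iff q.primeCompl] at hy ⊢
    obtain ⟨t, ht, htb⟩ := hy
    exact ⟨t, ht, hu p inferInstance _ (by rwa [mul_left_comm])⟩)
  refine h.1 (?_ : μ (algebraMap B Bq x) = μ 0)
  show algebraMap B Bq u * algebraMap B Bq x = algebraMap B Bq u * 0
  rw [← map_mul, mul_zero]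
  simp only [smul_eq_mul] at hx
  rw [hx, map_zero]

/-- For a flat algebra, `pB` is the kernel of the map to the fibre at `p`. -/
theorem mem_map_of_tmul_eq_zero [Module.Flat R B] (p : Ideal R) [p.IsPrime] {x : B}
    (hx : (1 : p.ResidueField) ⊗ₜ[R] x = 0) : x ∈ p.map (algebraMap R B) := by
  let i : (R ⧸ p) →ₗ[R] p.ResidueField := (IsScalarTower.toAlgHom R (R ⧸ p) p.ResidueField).toLinearMap
  have hi : Function.Injective i := p.injective_algebraMap_quotient_residueField
  have h := Module.Flat.rTensor_preserves_injective_linearMap (M := B) i hi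
  have h0 : ((1 : R ⧸ p) ⊗ₜ[R] x) = 0 := h (by simpa [i] using hx)
  have := congrArg (TensorProduct.quotTensorEquivQuotSMul B p) h0
  rw [map_zero, ← map_one (Ideal.Quotient.mk p), TensorProduct.quotTensorEquivQuotSMul_mk_tmul, one_smul] at this
  have := (Submodule.Quotient.mk_eq_zero _).1 this
  rwa [Ideal.smul_top_eq_map, Submodule.restrictScalars_mem] at this

theorem tmul_eq_zero_of_mem_map (p : Ideal R) [p.IsPrime] {x : B} (hx : x ∈ p.map (algebraMap R B)) :
    (1 : p.ResidueField) ⊗ₜ[R] x = 0 := by
  have hle : p.map (algebraMap R B) ≤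
      RingHom.ker (Algebra.TensorProduct.includeRight : B →ₐ[R] p.ResidueField ⊗[R] B).toRingHom := by
    rw [Ideal.map_le_iff_le_comap]
    intro r hr
    show (1 : p.ResidueField) ⊗ₜ[R] algebraMap R B r = 0
    rw [Algebra.algebraMap_eq_smul_one, TensorProduct.tmul_smul, TensorProduct.smul_tmul', ← Algebra.algebraMap_eq_smul_one,
      Ideal.algebraMap_residueField_eq_zero.2 hr, TensorProduct.zero_tmul]
  exact hle hx

/-- An element which does not vanish on any fibre is regular, if the fibres are domains. -/
theorem isSMulRegular_of_section [Algebra.FinitePresentation R B] [Module.Flat R B]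
    (hdom : ∀ (p : Ideal R) [p.IsPrime], IsDomain (p.ResidueField ⊗[R] B))
    (e : B →ₐ[R] R) (u : B) (hu : IsUnit (e u)) : IsSMulRegular B u := by
  refine isSMulRegular_of_mod_prime (R := R) u fun p hp x hx => ?_
  haveI := hp
  haveI := hdom p
  refine @mem_map_of_tmul_eq_zero R B _ _ _ _ p hp x ((mul_eq_zero.1 (?_ : ((1 : p.ResidueField) ⊗ₜ[R] u) * (1 ⊗ₜ x) = 0)).resolve_left ?_)
  · rw [Algebra.TensorProduct.tmul_mul_tmul, one_mul]
    exact tmul_eq_zero_of_mem_map p hx
  · intro h
    let ψ : p.ResidueField ⊗[R] B →ₐ[R] p.ResidueField := Algebra.TensorProduct.lift (AlgHom.id R _)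
      ((Algebra.ofId R _).comp e) fun _ _ => Commute.all _ _
    have := congrArg ψ h
    rw [Algebra.TensorProduct.lift_tmul, map_zero, map_one, one_mul] at this
    exact (hu.map (algebraMap R p.ResidueField)).ne_zero this

end Groth.Agent.SmoothWeil

end
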