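import Groth.Agent.SmoothWeil.Regular
import Mathlib.RingTheory.MvPolynomial.Ideal
import Mathlib.RingTheory.Smooth.NoetherianDescent
import Mathlib.RingTheory.Filtration

/-!
Infinitesimal neighbourhoods of a section of a smooth algebra.
-/

set_option autoImplicit false
set_option backward.isDefEq.respectTransparency false
set_option linter.style.haveILetI false

universe u

open TensorProduct

noncomputable section

namespace Groth.Agent.SmoothWeil

variable {R B : Type u} [CommRing R] [CommRing B] [Algebra R B]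

section Free

open MvPolynomial

theorem projective_finite_quot_idealOfVars (k n : ℕ) :
    Module.Projective R (MvPolynomial (Fin k) R ⧸ idealOfVars (Fin k) R ^ n) ∧
      Module.Finite R (MvPolynomial (Fin k) R ⧸ idealOfVars (Fin k) R ^ n) := by
  classical
  let D := {d : Fin k →₀ ℕ // d.degree < n}
  haveI : Finite D := (Finite.of_injective (fun d : D => fun i => (⟨d.1 i, lt_of_le_of_lt (Finsupp.le_degree i d.1) d.2⟩ : Fin n))
    fun a b h => Subtype.ext (Finsupp.ext fun i => congrArg Fin.val (congrFun h i)))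
  let ψ : MvPolynomial (Fin k) R →ₗ[R] (D → R) := LinearMap.pi fun d => lcoeff R d.1
  have hψ : Function.Surjective ψ := by
    haveI := Fintype.ofFinite D
    intro f
    refine ⟨∑ d : D, monomial d.1 (f d), funext fun d => ?_⟩
    show coeff d.1 _ = f d
    rw [coeff_sum, Finset.sum_eq_single d]
    · simp
    · intro c _ hc
      rw [coeff_monomial, if_neg fun h => hc (Subtype.ext h)]
    · simp
  have hker : LinearMap.ker ψ = (idealOfVars (Fin k) R ^ n).restrictScalars R := by
    ext p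
    simp [ψ, mem_pow_idealOfVars_iff', funext_iff, D]
  let e := ((Submodule.Quotient.restrictScalarsEquiv R (idealOfVars (Fin k) R ^ n)).symm.trans
    (Submodule.quotEquivOfEq _ _ hker.symm)).trans (ψ.quotKerEquivOfSurjective hψ)
  exact ⟨Module.Projective.of_equiv e.symm, Module.Finite.equiv e.symm⟩

end Free

variable (e : B →ₐ[R] R)

/-- Infinitesimal neighbourhoods of a section of a smooth algebra are finite projective. -/
theorem projective_finite_quot_ker_pow [Algebra.FiniteType R B] [Algebra.FormallySmooth R B] (n : ℕ) :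
    Module.Projective R (B ⧸ RingHom.ker e ^ n) ∧ Module.Finite R (B ⧸ RingHom.ker e ^ n) := by
  obtain ⟨k, φ, hφ⟩ := Algebra.FiniteType.iff_quotient_mvPolynomial''.1 ‹Algebra.FiniteType R B›
  let φ' : MvPolynomial (Fin k) R →ₐ[R] B :=
    MvPolynomial.aeval fun i => φ (MvPolynomial.X i) - algebraMap R B (e (φ (MvPolynomial.X i)))
  have hφ' : Function.Surjective φ' := by
    intro b
    obtain ⟨p, rfl⟩ := hφ b
    refine ⟨MvPolynomial.aeval (fun i => MvPolynomial.X i + MvPolynomial.C (e (φ (MvPolynomial.X i)))) p, ?_⟩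
    rw [← AlgHom.comp_apply]
    exact AlgHom.congr_fun (MvPolynomial.algHom_ext fun i => by simp [φ']) p
  have he : ∀ i, e (φ' (MvPolynomial.X i)) = 0 := fun i => by simp [φ']
  let J := MvPolynomial.idealOfVars (Fin k) R
  have hJ : J ≤ (RingHom.ker e).comap φ' := by
    rw [show J = Ideal.span (Set.range MvPolynomial.X) from rfl, Ideal.span_le]
    rintro _ ⟨i, rfl⟩
    exact he i
  have hconst : ∀ p, e (φ' p) = MvPolynomial.constantCoeff p := fun p => by
    have : e.comp φ' = MvPolynomial.aeval (fun _ => (0 : R)) := MvPolynomial.algHom_ext fun i => by simp [he]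
    rw [← AlgHom.comp_apply, this, MvPolynomial.aeval_zero']
    simp
  have hJmem : ∀ p, MvPolynomial.constantCoeff p = 0 → p ∈ J := fun p hp => by
    have := (MvPolynomial.mem_pow_idealOfVars_iff' 1 p).2 fun x hx => by
      rw [show x = 0 by simpa [Finsupp.degree_eq_zero_iff] using Nat.lt_one_iff.1 hx]
      exact hp
    simpa [J] using this
  have hle : J ^ n ≤ (RingHom.ker e ^ n).comap φ' :=
    (Ideal.pow_right_mono hJ n).trans (Ideal.le_comap_pow _ n)
  let π : (MvPolynomial (Fin k) R ⧸ J ^ n) →ₐ[R] (B ⧸ RingHom.ker e ^ n) := Ideal.quotientMapₐ _ φ' hle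
  have hπ : Function.Surjective π := fun x => by
    obtain ⟨b, rfl⟩ := Ideal.Quotient.mk_surjective x
    obtain ⟨p, rfl⟩ := hφ' b
    exact ⟨Ideal.Quotient.mk _ p, rfl⟩
  obtain ⟨hP, hF⟩ := projective_finite_quot_idealOfVars (R := R) k n
  haveI := hP; haveI := hF
  refine ⟨?_, Module.Finite.of_surjective π.toLinearMap hπ⟩
  rcases eq_or_ne n 0 with rfl | hn
  · haveI : Subsingleton (B ⧸ RingHom.ker e ^ 0) :=
      Ideal.Quotient.subsingleton_iff.2 (by simp)
    infer_instance
  have hnil : IsNilpotent (RingHom.ker π.toRingHom) := by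
    refine ⟨n, ?_⟩
    have : RingHom.ker π.toRingHom ≤ J.map (Ideal.Quotient.mk (J ^ n)) := by
      intro x hx
      obtain ⟨p, rfl⟩ := Ideal.Quotient.mk_surjective x
      have hp : φ' p ∈ RingHom.ker e ^ n := Ideal.Quotient.eq_zero_iff_mem.1 hx
      exact Ideal.mem_map_of_mem _ (hJmem p ((hconst p).symm.trans (Ideal.pow_le_self hn hp)))
    refine le_bot_iff.1 ((Ideal.pow_right_mono this n).trans ?_)
    rw [← Ideal.map_pow, Ideal.map_quotient_self]
  obtain ⟨s, hs⟩ : ∃ s : B →ₐ[R] MvPolynomial (Fin k) R ⧸ J ^ n, π.comp s = Ideal.Quotient.mkₐ R _ :=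
    ⟨_, Algebra.FormallySmooth.comp_liftOfSurjective (Ideal.Quotient.mkₐ R (RingHom.ker e ^ n)) π hπ hnil⟩
  have hsm : RingHom.ker e ≤ (J.map (Ideal.Quotient.mk (J ^ n))).comap s := by
    intro b hb
    obtain ⟨p, hp⟩ := Ideal.Quotient.mk_surjective (s b)
    rw [Ideal.mem_comap, ← hp]
    refine Ideal.mem_map_of_mem _ (hJmem p ((hconst p).symm.trans ?_))
    have h1 := AlgHom.congr_fun hs b
    rw [AlgHom.comp_apply, ← hp] at h1
    have h2 : φ' p - b ∈ RingHom.ker e := Ideal.pow_le_self hn (Ideal.Quotient.eq.1 h1)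
    have h3 : e (φ' p - b) = 0 := h2
    rwa [map_sub, RingHom.mem_ker.1 hb, sub_zero] at h3
  have hs0 : ∀ b ∈ RingHom.ker e ^ n, s b = 0 := fun b hb => by
    have := Ideal.pow_right_mono hsm n hb
    have := Ideal.le_comap_pow _ n this
    rwa [← Ideal.map_pow, Ideal.map_quotient_self, Ideal.mem_comap, Ideal.mem_bot] at this
  refine Module.Projective.of_split (Ideal.Quotient.liftₐ _ s hs0).toLinearMap π.toLinearMap ?_
  refine LinearMap.ext fun x => ?_
  obtain ⟨b, rfl⟩ := Ideal.Quotient.mk_surjective x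
  exact AlgHom.congr_fun hs b

/-- The kernel of a base changed section. -/
theorem ker_lift_section (R' : Type u) [CommRing R'] [Algebra R R'] :
    RingHom.ker (Algebra.TensorProduct.lift (AlgHom.id R' R') ((Algebra.ofId R R').comp e) fun _ _ => Commute.all _ _) =
      (RingHom.ker e).map (Algebra.TensorProduct.includeRight : B →ₐ[R] R' ⊗[R] B) := by
  set L := Algebra.TensorProduct.lift (AlgHom.id R' R') ((Algebra.ofId R R').comp e) fun _ _ => Commute.all _ _
  refine le_antisymm (fun z hz => ?_) (Ideal.map_le_iff_le_comap.2 fun b hb => ?_)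
  · have key : ∀ w : R' ⊗[R] B, w - L w ⊗ₜ[R] (1 : B) ∈
        (RingHom.ker e).map (Algebra.TensorProduct.includeRight : B →ₐ[R] R' ⊗[R] B) := by
      intro w
      induction w using TensorProduct.induction_on with
      | zero => simp
      | add a b ha hb =>
        rw [map_add, TensorProduct.add_tmul,
          show a + b - (L a ⊗ₜ[R] (1 : B) + L b ⊗ₜ[R] 1) = (a - L a ⊗ₜ[R] (1 : B)) + (b - L b ⊗ₜ[R] 1) by abel]
        exact add_mem ha hb
      | tmul r b =>
        have hmem : b - algebraMap R B (e b) ∈ RingHom.ker e := by simp [RingHom.mem_ker]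
        have := Ideal.mul_mem_left _ (r ⊗ₜ[R] (1 : B)) (Ideal.mem_map_of_mem
          (Algebra.TensorProduct.includeRight : B →ₐ[R] R' ⊗[R] B) hmem)
        convert this using 1
        rw [Algebra.TensorProduct.includeRight_apply, Algebra.TensorProduct.tmul_mul_tmul, mul_one, one_mul,
          TensorProduct.tmul_sub, Algebra.algebraMap_eq_smul_one, TensorProduct.tmul_smul]
        simp [L, Algebra.smul_def, mul_comm, TensorProduct.smul_tmul']
    have := key z
    rwa [RingHom.mem_ker.1 hz, TensorProduct.zero_tmul, sub_zero] at this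
  · show L (1 ⊗ₜ b) = 0
    simp [L, RingHom.mem_ker.1 hb]

/-- Vanishing to order `n` along a section may be checked after an injective base change. -/
theorem mem_ker_pow_of_injective {R₁ B₁ : Type u} [CommRing R₁] [CommRing B₁] [Algebra R₁ B₁] [Algebra.Smooth R₁ B₁]
    [Algebra R₁ R] (e₁ : B₁ →ₐ[R₁] R₁) (hinj : Function.Injective (algebraMap R₁ R)) (θ : R ⊗[R₁] B₁ ≃ₐ[R] B)
    (hc : ∀ z, e (θ z) =
      Algebra.TensorProduct.lift (AlgHom.id R R) ((Algebra.ofId R₁ R).comp e₁) (fun _ _ => Commute.all _ _) z)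
    {n : ℕ} {x : B₁} (hx : θ (1 ⊗ₜ x) ∈ RingHom.ker e ^ n) : x ∈ RingHom.ker e₁ ^ n := by
  haveI := (projective_finite_quot_ker_pow e₁ n).1
  have hI : (RingHom.ker e).map θ.symm.toAlgHom = (RingHom.ker e₁).map
      (Algebra.TensorProduct.includeRight : B₁ →ₐ[R₁] R ⊗[R₁] B₁) := by
    rw [← ker_lift_section e₁ R]
    ext z
    rw [Ideal.mem_map_iff_of_surjective θ.symm.toAlgHom θ.symm.surjective]
    constructor
    · rintro ⟨y, hy, rfl⟩
      rw [RingHom.mem_ker, AlgEquiv.coe_toAlgHom, ← hc, AlgEquiv.apply_symm_apply]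
      exact hy
    · intro hz
      exact ⟨θ z, by rw [RingHom.mem_ker, hc]; exact hz, by simp⟩
  have h1 : (1 : R) ⊗ₜ[R₁] x ∈ (RingHom.ker e₁ ^ n).map
      (Algebra.TensorProduct.includeRight : B₁ →ₐ[R₁] R ⊗[R₁] B₁) := by
    rw [Ideal.map_pow, ← hI, ← Ideal.map_pow]
    simpa using Ideal.mem_map_of_mem θ.symm.toAlgHom hx
  have h2 : (1 : R) ⊗ₜ[R₁] Ideal.Quotient.mk (RingHom.ker e₁ ^ n) x = 0 := by
    have hle : (RingHom.ker e₁ ^ n).map (Algebra.TensorProduct.includeRight : B₁ →ₐ[R₁] R ⊗[R₁] B₁) ≤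
        RingHom.ker (Algebra.TensorProduct.map (AlgHom.id R R) (Ideal.Quotient.mkₐ R₁ (RingHom.ker e₁ ^ n))) := by
      rw [Ideal.map_le_iff_le_comap]
      intro y hy
      simp [Ideal.Quotient.eq_zero_iff_mem.2 hy]
    simpa using hle h1
  refine Ideal.Quotient.eq_zero_iff_mem.1 ((TensorProduct.lid R₁ _).symm.injective ?_)
  refine Module.Flat.rTensor_preserves_injective_linearMap (Algebra.linearMap R₁ R) hinj ?_
  simpa using h2

/-- A Noetherian model of a smooth algebra with a section, containing given elements. -/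
theorem exists_noetherian_model [Algebra.Smooth R B] (F : Finset B) :
    ∃ (R₁ B₁ : Type u) (_ : CommRing R₁) (_ : CommRing B₁) (_ : Algebra R₁ B₁) (_ : Algebra R₁ R)
      (_ : IsNoetherianRing R₁) (_ : Algebra.Smooth R₁ B₁) (e₁ : B₁ →ₐ[R₁] R₁) (θ : R ⊗[R₁] B₁ ≃ₐ[R] B),
      Function.Injective (algebraMap R₁ R) ∧
      (∀ z, e (θ z) =
        Algebra.TensorProduct.lift (AlgHom.id R R) ((Algebra.ofId R₁ R).comp e₁) (fun _ _ => Commute.all _ _) z) ∧
      ∀ x ∈ F, ∃ x₁ : B₁, θ (1 ⊗ₜ x₁) = x := by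
  classical
  obtain ⟨R₀, B₀, _, _, ⟨s₀, hs₀⟩, hsm, ⟨θ⟩⟩ := Algebra.Smooth.exists_subalgebra_fg ℤ R B
  haveI := hsm
  obtain ⟨t, ht⟩ := Algebra.FiniteType.out (R := R₀) (A := B₀)
  choose w hw using fun x : B => TensorProduct.exists_finset (θ x)
  let ι : B₀ →ₐ[R₀] R :=
    ((e.comp θ.symm.toAlgHom).restrictScalars R₀).comp Algebra.TensorProduct.includeRight
  let R₁ : Subalgebra ℤ R := Algebra.adjoin ℤ ((s₀ ∪ t.image ι ∪ (F.biUnion fun x => (w x).image Prod.fst) : Finset R) : Set R)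
  haveI : IsNoetherianRing R₁ := by
    haveI : Algebra.FiniteType ℤ R₁ := (Subalgebra.fg_iff_finiteType R₁).1 ⟨_, rfl⟩
    exact Algebra.FiniteType.isNoetherianRing ℤ R₁
  have h01 : R₀ ≤ R₁ := by
    rw [← hs₀]; exact Algebra.adjoin_mono (by intro z hz; simp only [Finset.coe_union, Set.mem_union]; exact .inl (.inl hz))
  letI : Algebra R₀ R₁ := (Subalgebra.inclusion h01).toRingHom.toAlgebra
  haveI : IsScalarTower R₀ R₁ R := IsScalarTower.of_algebraMap_eq fun _ => rfl
  have hι : ∀ b, ι b ∈ R₁ := fun b => by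
    have hb : b ∈ Algebra.adjoin R₀ (t : Set B₀) := ht ▸ Algebra.mem_top
    induction hb using Algebra.adjoin_induction with
    | mem z hz =>
      exact Algebra.subset_adjoin (by
        simp only [Finset.coe_union, Set.mem_union, Finset.coe_image]; exact .inl (.inr ⟨z, hz, rfl⟩))
    | algebraMap r => rw [AlgHom.commutes]; exact h01 r.2
    | add a b _ _ ha hb => rw [map_add]; exact add_mem ha hb
    | mul a b _ _ ha hb => rw [map_mul]; exact mul_mem ha hb
  let ι₁ : B₀ →ₐ[R₀] R₁ :=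
    { toRingHom := ι.toRingHom.codRestrict R₁ hι
      commutes' := fun r => Subtype.ext (ι.commutes r) }
  let B₁ := R₁ ⊗[R₀] B₀
  let e₁ : B₁ →ₐ[R₁] R₁ :=
    Algebra.TensorProduct.lift (AlgHom.id R₁ R₁) ι₁ fun _ _ => Commute.all _ _
  let θ' : R ⊗[R₁] B₁ ≃ₐ[R] B := (Algebra.TensorProduct.cancelBaseChange R₀ R₁ R R B₀).trans θ.symm
  have hcbc : ∀ (r : R) (r₁ : R₁) (b : B₀),
      Algebra.TensorProduct.cancelBaseChange R₀ R₁ R R B₀ (r ⊗ₜ[R₁] (r₁ ⊗ₜ[R₀] b)) = ((r₁ : R) * r) ⊗ₜ[R₀] b :=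
    fun r r₁ b => Algebra.TensorProduct.cancelBaseChange_tmul ..
  have hx₁ : ∀ x ∈ F, ∃ x₁ : B₁, θ' (1 ⊗ₜ x₁) = x := by
    intro x hxF
    refine ⟨∑ i ∈ (w x).attach, (⟨i.1.1, Algebra.subset_adjoin (by
      simp only [Finset.coe_union, Set.mem_union, Finset.coe_image]; exact .inr (Finset.mem_biUnion.2 ⟨x, hxF, Finset.mem_image.2 ⟨i.1, i.2, rfl⟩⟩))⟩ : R₁) ⊗ₜ[R₀] i.1.2, ?_⟩
    apply θ.injective
    refine Eq.trans ?_ (hw x).symm
    simp only [θ', AlgEquiv.trans_apply, AlgEquiv.apply_symm_apply, TensorProduct.tmul_sum, map_sum]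
    conv_rhs => rw [← Finset.sum_attach]
    exact Finset.sum_congr rfl fun i _ => (hcbc _ _ _).trans (by rw [mul_one])
  have hc : ∀ z, e (θ' z) =
      Algebra.TensorProduct.lift (AlgHom.id R R) ((Algebra.ofId R₁ R).comp e₁) (fun _ _ => Commute.all _ _) z := by
    intro z
    induction z using TensorProduct.induction_on with
    | zero => simp
    | add a b ha hb => simp [map_add, ha, hb]
    | tmul r y =>
      induction y using TensorProduct.induction_on with
      | zero => simp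
      | add a b ha hb => rw [TensorProduct.tmul_add, map_add, map_add, map_add, ha, hb]
      | tmul r₁ b =>
        have : e (θ.symm ((1 : R) ⊗ₜ[R₀] b)) = ((ι₁ b : R₁) : R) := rfl
        rw [show θ' (r ⊗ₜ[R₁] (r₁ ⊗ₜ[R₀] b)) = θ.symm (((r₁ : R) * r) • ((1 : R) ⊗ₜ[R₀] b)) by
          exact (congrArg θ.symm (hcbc r r₁ b)).trans
            (congrArg θ.symm (by rw [TensorProduct.smul_tmul', smul_eq_mul, mul_one])),
          map_smul, map_smul, this]
        rw [Algebra.TensorProduct.lift_tmul]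
        show (↑r₁ * r) • ↑(ι₁ b) = r * ((e₁ (r₁ ⊗ₜ[R₀] b) : R₁) : R)
        rw [show e₁ (r₁ ⊗ₜ[R₀] b) = r₁ * ι₁ b from Algebra.TensorProduct.lift_tmul ..]
        show (↑r₁ * r) * ↑(ι₁ b) = r * ((r₁ * ι₁ b : R₁) : R)
        push_cast; ring
  exact ⟨R₁, B₁, inferInstance, inferInstance, inferInstance, inferInstance, inferInstance, inferInstance, e₁, θ',
    Subtype.val_injective, hc, hx₁⟩

/-- A function vanishing to infinite order along a section is killed by a function equal to one on it. -/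
theorem exists_killer_of_forall_mem_pow [Algebra.Smooth R B]
    {x : B} (hx : ∀ n, x ∈ RingHom.ker e ^ n) : ∃ v : B, e v = 1 ∧ v * x = 0 := by
  obtain ⟨R₁, B₁, _, _, _, _, _, _, e₁, θ', hinj, hc, hF⟩ := exists_noetherian_model e {x}
  obtain ⟨x₁, rfl⟩ := hF x (Finset.mem_singleton_self _)
  have hmem : ∀ n, x₁ ∈ RingHom.ker e₁ ^ n := fun n => mem_ker_pow_of_injective e e₁ hinj θ' hc (hx n)
  haveI : IsNoetherianRing B₁ := Algebra.FiniteType.isNoetherianRing R₁ B₁
  have h3 : x₁ ∈ ⨅ i : ℕ, RingHom.ker e₁ ^ i • (⊤ : Submodule B₁ B₁) := by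
    simp only [smul_eq_mul, Ideal.mul_top, Submodule.mem_iInf]
    exact hmem
  obtain ⟨r, hr⟩ := ((RingHom.ker e₁).mem_iInf_smul_pow_eq_bot_iff x₁).1 h3
  let v : B := θ' (1 ⊗ₜ[R₁] (1 - (r : B₁)))
  have hv : v * θ' (1 ⊗ₜ[R₁] x₁) = 0 := by
    rw [← map_mul, Algebra.TensorProduct.tmul_mul_tmul, one_mul, sub_mul, one_mul]
    simp only [smul_eq_mul] at hr
    rw [hr, sub_self, TensorProduct.tmul_zero, map_zero]
  have hev : e v = 1 := by
    rw [hc, Algebra.TensorProduct.lift_tmul]
    simp [RingHom.mem_ker.1 r.2, map_sub]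
  exact ⟨v, hev, hv⟩

/-- A function on a smooth algebra with integral fibres vanishing to infinite order along a section is zero. -/
theorem eq_zero_of_forall_mem_pow [Algebra.Smooth R B]
    (hdom : ∀ (p : Ideal R) [p.IsPrime], IsDomain (p.ResidueField ⊗[R] B))
    {x : B} (hx : ∀ n, x ∈ RingHom.ker e ^ n) : x = 0 := by
  obtain ⟨v, hev, hv⟩ := exists_killer_of_forall_mem_pow e hx
  exact (isSMulRegular_of_section hdom e v (hev ▸ isUnit_one)).right_eq_zero_of_smul hv

end Groth.Agent.SmoothWeil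

end
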